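import Cfsg.Agent.Chev.Graph
/-!
Tables of the graph automorphisms of types D4 and E6.
-/
set_option autoImplicit false
set_option maxRecDepth 100000

namespace Cfsg.Agent.Chev

open Cfsg.Lie

/-- permutation of the nodes given by a list -/
def lpm (l : List ℕ) (i : ℕ) : ℕ := l.getD i 0

/-- packed table of the graph automorphism [0, 1, 2, 3] of D4 -/
def gpD4_0 : ℕ := 9479360539281666798717320026642781856776399915343868593186014208
/-- its inverse -/
def gqD4_0 : ℕ := 9479360539281666798717320026642781856776399915343868593186014208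

theorem chkG_D4_0 : chkG chevD4 gpD4_0 gqD4_0 (lpm [0, 1, 2, 3]) = true := by decide +kernel

theorem gok_D4_0 : GOK chevD4 gpD4_0 gqD4_0 (lpm [0, 1, 2, 3]) := gok_of good1_D4 chkG_D4_0

theorem piok_D4_0 : PiOK chevD4.rank (lpm [0, 1, 2, 3]) (lpm [0, 1, 2, 3]) :=
  ⟨by show ∀ i < 4, _; decide, by show ∀ i < 4, _; decide⟩

theorem pj_D4_0 : ∀ i < chevD4.rank, lpm [0, 1, 2, 3] i < chevD4.rank := by
  show ∀ i < 4, _ < 4; decide

theorem simp_D4_0 : ∀ i < 4, wv gpD4_0 (chevD4.simple i) = chevD4.simple (lpm [0, 1, 2, 3] i) ∧ wb gpD4_0 (chevD4.simple i) = 0 := by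
  decide +kernel

/-- packed table of the graph automorphism [2, 1, 3, 0] of D4 -/
def gpD4_1 : ℕ := 9479355049867615260153329011139561358649351287233904251275314176
/-- its inverse -/
def gqD4_1 : ℕ := 9479358962322733111084343273495189426716896991402888825769821184

theorem chkG_D4_1 : chkG chevD4 gpD4_1 gqD4_1 (lpm [2, 1, 3, 0]) = true := by decide +kernel

theorem gok_D4_1 : GOK chevD4 gpD4_1 gqD4_1 (lpm [2, 1, 3, 0]) := gok_of good1_D4 chkG_D4_1

theorem piok_D4_1 : PiOK chevD4.rank (lpm [2, 1, 3, 0]) (lpm [3, 1, 0, 2]) :=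
  ⟨by show ∀ i < 4, _; decide, by show ∀ i < 4, _; decide⟩

theorem pj_D4_1 : ∀ i < chevD4.rank, lpm [3, 1, 0, 2] i < chevD4.rank := by
  show ∀ i < 4, _ < 4; decide

theorem simp_D4_1 : ∀ i < 4, wv gpD4_1 (chevD4.simple i) = chevD4.simple (lpm [2, 1, 3, 0] i) ∧ wb gpD4_1 (chevD4.simple i) = 0 := by
  decide +kernel

/-- packed table of the graph automorphism [3, 1, 0, 2] of D4 -/
def gpD4_2 : ℕ := 9479358962322733111084343273495189426716896991402888825769821184
/-- its inverse -/
def gqD4_2 : ℕ := 9479355049867615260153329011139561358649351287233904251275314176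

theorem chkG_D4_2 : chkG chevD4 gpD4_2 gqD4_2 (lpm [3, 1, 0, 2]) = true := by decide +kernel

theorem gok_D4_2 : GOK chevD4 gpD4_2 gqD4_2 (lpm [3, 1, 0, 2]) := gok_of good1_D4 chkG_D4_2

theorem piok_D4_2 : PiOK chevD4.rank (lpm [3, 1, 0, 2]) (lpm [2, 1, 3, 0]) :=
  ⟨by show ∀ i < 4, _; decide, by show ∀ i < 4, _; decide⟩

theorem pj_D4_2 : ∀ i < chevD4.rank, lpm [2, 1, 3, 0] i < chevD4.rank := by
  show ∀ i < 4, _ < 4; decide

theorem simp_D4_2 : ∀ i < 4, wv gpD4_2 (chevD4.simple i) = chevD4.simple (lpm [3, 1, 0, 2] i) ∧ wb gpD4_2 (chevD4.simple i) = 0 := by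
  decide +kernel

/-- packed table of the graph automorphism [2, 1, 0, 3] of D4 -/
def gpD4_3 : ℕ := 9479360531604164937638090062436915524551039326957752388936532992
/-- its inverse -/
def gqD4_3 : ℕ := 9479360531604164937638090062436915524551039326957752388936532992

theorem chkG_D4_3 : chkG chevD4 gpD4_3 gqD4_3 (lpm [2, 1, 0, 3]) = true := by decide +kernel

theorem gok_D4_3 : GOK chevD4 gpD4_3 gqD4_3 (lpm [2, 1, 0, 3]) := gok_of good1_D4 chkG_D4_3

theorem piok_D4_3 : PiOK chevD4.rank (lpm [2, 1, 0, 3]) (lpm [2, 1, 0, 3]) :=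
  ⟨by show ∀ i < 4, _; decide, by show ∀ i < 4, _; decide⟩

theorem pj_D4_3 : ∀ i < chevD4.rank, lpm [2, 1, 0, 3] i < chevD4.rank := by
  show ∀ i < 4, _ < 4; decide

theorem simp_D4_3 : ∀ i < 4, wv gpD4_3 (chevD4.simple i) = chevD4.simple (lpm [2, 1, 0, 3] i) ∧ wb gpD4_3 (chevD4.simple i) = 0 := by
  decide +kernel

/-- packed table of the graph automorphism [3, 1, 2, 0] of D4 -/
def gpD4_4 : ℕ := 9479355046796626198582509842871285721481261113393465815882531840
/-- its inverse -/
def gqD4_4 : ℕ := 9479355046796626198582509842871285721481261113393465815882531840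

theorem chkG_D4_4 : chkG chevD4 gpD4_4 gqD4_4 (lpm [3, 1, 2, 0]) = true := by decide +kernel

theorem gok_D4_4 : GOK chevD4 gpD4_4 gqD4_4 (lpm [3, 1, 2, 0]) := gok_of good1_D4 chkG_D4_4

theorem piok_D4_4 : PiOK chevD4.rank (lpm [3, 1, 2, 0]) (lpm [3, 1, 2, 0]) :=
  ⟨by show ∀ i < 4, _; decide, by show ∀ i < 4, _; decide⟩

theorem pj_D4_4 : ∀ i < chevD4.rank, lpm [3, 1, 2, 0] i < chevD4.rank := by
  show ∀ i < 4, _ < 4; decide

theorem simp_D4_4 : ∀ i < 4, wv gpD4_4 (chevD4.simple i) = chevD4.simple (lpm [3, 1, 2, 0] i) ∧ wb gpD4_4 (chevD4.simple i) = 0 := by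
  decide +kernel

/-- packed table of the graph automorphism [0, 1, 3, 2] of D4 -/
def gpD4_5 : ℕ := 9479358973071224033734392405969331396110347753629443465412084736
/-- its inverse -/
def gqD4_5 : ℕ := 9479358973071224033734392405969331396110347753629443465412084736

theorem chkG_D4_5 : chkG chevD4 gpD4_5 gqD4_5 (lpm [0, 1, 3, 2]) = true := by decide +kernel

theorem gok_D4_5 : GOK chevD4 gpD4_5 gqD4_5 (lpm [0, 1, 3, 2]) := gok_of good1_D4 chkG_D4_5

theorem piok_D4_5 : PiOK chevD4.rank (lpm [0, 1, 3, 2]) (lpm [0, 1, 3, 2]) :=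
  ⟨by show ∀ i < 4, _; decide, by show ∀ i < 4, _; decide⟩

theorem pj_D4_5 : ∀ i < chevD4.rank, lpm [0, 1, 3, 2] i < chevD4.rank := by
  show ∀ i < 4, _ < 4; decide

theorem simp_D4_5 : ∀ i < 4, wv gpD4_5 (chevD4.simple i) = chevD4.simple (lpm [0, 1, 3, 2] i) ∧ wb gpD4_5 (chevD4.simple i) = 0 := by
  decide +kernel

/-- packed table of the graph automorphism [0, 1, 2, 3, 4, 5] of E6 -/
def gpE6_0 : ℕ := 324558258244088450092250234173662644769163265629361905752825355024243473217249388514161911906098123109945968388451953729430702770490494659469068190501396779821954464766620421732344077863097467904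
/-- its inverse -/
def gqE6_0 : ℕ := 324558258244088450092250234173662644769163265629361905752825355024243473217249388514161911906098123109945968388451953729430702770490494659469068190501396779821954464766620421732344077863097467904

theorem chkG_E6_0 : chkG chevE6 gpE6_0 gqE6_0 (lpm [0, 1, 2, 3, 4, 5]) = true := by decide +kernel

theorem gok_E6_0 : GOK chevE6 gpE6_0 gqE6_0 (lpm [0, 1, 2, 3, 4, 5]) := gok_of good1_E6 chkG_E6_0

theorem piok_E6_0 : PiOK chevE6.rank (lpm [0, 1, 2, 3, 4, 5]) (lpm [0, 1, 2, 3, 4, 5]) :=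
  ⟨by show ∀ i < 6, _; decide, by show ∀ i < 6, _; decide⟩

theorem pj_E6_0 : ∀ i < chevE6.rank, lpm [0, 1, 2, 3, 4, 5] i < chevE6.rank := by
  show ∀ i < 6, _ < 6; decide

theorem simp_E6_0 : ∀ i < 6, wv gpE6_0 (chevE6.simple i) = chevE6.simple (lpm [0, 1, 2, 3, 4, 5] i) ∧ wb gpE6_0 (chevE6.simple i) = 0 := by
  decide +kernel

/-- packed table of the graph automorphism [5, 1, 4, 3, 2, 0] of E6 -/
def gpE6_1 : ℕ := 324558258175339535487053702302394916918189854471768949697774044200955347901138360456596132993202453001070520957435807991339552995993972604141903352563037713637600569807037331643690063651599811584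
/-- its inverse -/
def gqE6_1 : ℕ := 324558258175339535487053702302394916918189854471768949697774044200955347901138360456596132993202453001070520957435807991339552995993972604141903352563037713637600569807037331643690063651599811584

theorem chkG_E6_1 : chkG chevE6 gpE6_1 gqE6_1 (lpm [5, 1, 4, 3, 2, 0]) = true := by decide +kernel

theorem gok_E6_1 : GOK chevE6 gpE6_1 gqE6_1 (lpm [5, 1, 4, 3, 2, 0]) := gok_of good1_E6 chkG_E6_1

theorem piok_E6_1 : PiOK chevE6.rank (lpm [5, 1, 4, 3, 2, 0]) (lpm [5, 1, 4, 3, 2, 0]) :=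
  ⟨by show ∀ i < 6, _; decide, by show ∀ i < 6, _; decide⟩

theorem pj_E6_1 : ∀ i < chevE6.rank, lpm [5, 1, 4, 3, 2, 0] i < chevE6.rank := by
  show ∀ i < 6, _ < 6; decide

theorem simp_E6_1 : ∀ i < 6, wv gpE6_1 (chevE6.simple i) = chevE6.simple (lpm [5, 1, 4, 3, 2, 0] i) ∧ wb gpE6_1 (chevE6.simple i) = 0 := by
  decide +kernel

end Cfsg.Agent.Chev
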